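/-
Groups with the `3`-local structure of `M₁₁`: the centralizer of an involution.
-/
import Cfsg.Agent.P11.A
import Cfsg.Agent.S3331
set_option autoImplicit false
set_option linter.unusedSectionVars false

namespace CF.P11
open Subgroup Cfsg CF.BG CF.GW CF.Ab2
open CF.Six (cu3 ne3 ord3 inv3 card3 pi3 odd3 nd3 cn p3 norm_zp Fp)
open CF.IC (mem_sup_iv card_sup_iv)
open scoped commutatorElement MatrixGroups

variable {G : Type*} [Group G] [Finite G] {Γ : Type} [Group Γ] [Finite Γ]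
variable {K M P T U X : Subgroup G} {a b c g h k n p r s t u v x y z : G}

theorem t23 (k : P2 P) : PiGrp {3}ᶜ P := k.of_single_ne (by decide)
theorem nd3' (k : PiGrp {3}ᶜ P) : ¬ 3 ∣ ♯P := (piNat_compl_single p3).1 k
theorem not_mem3 (q : PiGrp {3}ᶜ P) (o : orderOf k = 3) : k ∉ P := fun m => nd3' q (o ▸ orderOf_dvd_card' m)

theorem Fp.bound (f : Fp r K) (zz : z * z = 1) (n : z ∈ 𝐍 K) (e : z * r * z⁻¹ = r⁻¹) :
    ♯K ≤ ♯(K ⊓ 𝐂₁ z : Subgroup G) * ♯(K ⊓ 𝐂₁ z : Subgroup G) := by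
  rw [← card_inf_mul_relIndex (𝐂₁ z) K, inf_comm, ← CIT.ncard_conj, ← CIT.ncard_sub]
  refine Nat.mul_le_mul_left _ (Set.ncard_le_ncard_of_injOn
    (fun w => r * (w * z⁻¹) * r⁻¹ * (r⁻¹ * (w * z⁻¹) * r)⁻¹) ?_ ?_ (Set.toFinite _))
  · rintro _ ⟨k, hk, rfl⟩
    have m : k * z * k⁻¹ * z⁻¹ ∈ K := by simpa [mul_assoc] using mul_mem hk (conj_mem_of_norm n (inv_mem hk))
    have i : z * (k * z * k⁻¹ * z⁻¹) * z⁻¹ = (k * z * k⁻¹ * z⁻¹)⁻¹ := by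
      calc _ = z * k * z⁻¹ * (z * z) * k⁻¹ * (z * z)⁻¹ := by group
        _ = _ := by rw [zz]; group
    generalize k * z * k⁻¹ * z⁻¹ = j at m i
    have c := f.comm (f.cj m)
    have r2 : r * (r * j * r⁻¹) * r⁻¹ = r⁻¹ * j * r := by
      calc _ = r⁻¹ * (r * r * r) * j * (r * r * r)⁻¹ * r := by group
        _ = _ := by rw [f.cu]; group
    rw [r2] at c
    refine mem_inf.2 ⟨mul_mem (f.cj m) (inv_mem (f.cj' m)), mem_cent1.2 (cmj ?_).symm⟩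
    calc _ = z * r * z⁻¹ * (z * j * z⁻¹) * (z * r * z⁻¹)⁻¹ * ((z * r * z⁻¹)⁻¹ * (z * j * z⁻¹) * (z * r * z⁻¹))⁻¹ := by group
      _ = (r⁻¹ * j * r)⁻¹ * (r * j * r⁻¹) := by rw [e, i]; group
      _ = _ := (Commute.inv_right c).eq.symm
  · rintro _ ⟨k, hk, rfl⟩ _ ⟨l, hl, rfl⟩ j
    have m : ∀ k ∈ K, k * z * k⁻¹ * z⁻¹ ∈ K := fun k hk => by
      simpa [mul_assoc] using mul_mem hk (conj_mem_of_norm n (inv_mem hk))
    refine mul_right_cancel (b := z⁻¹) (inv_mul_eq_one.1 (f.one (mul_mem (inv_mem (m k hk)) (m l hl)) ?_))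
    simp only at j
    generalize k * z * k⁻¹ * z⁻¹ = a at j
    generalize l * z * l⁻¹ * z⁻¹ = b at j
    have E : r * (a⁻¹ * b) * r⁻¹ = r⁻¹ * (a⁻¹ * b) * r := by
      calc _ = (r * a * r⁻¹)⁻¹ * (r * b * r⁻¹ * (r⁻¹ * b * r)⁻¹) * (r⁻¹ * b * r) := by group
        _ = _ := by rw [← j]; group
    calc _ = r⁻¹ * (r * r * r * (a⁻¹ * b) * (r * r * r)⁻¹) * r := by rw [f.cu, E]; group
      _ = r * (r * (a⁻¹ * b) * r⁻¹) * r⁻¹ := by group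
      _ = _ := by rw [E]; group

namespace Hy
variable (H : Hy G)
include H

theorem le2 (o : orderOf k = 3) (q : PiGrp {3}ᶜ P) (l : P ≤ 𝐂₁ k) : ♯P ≤ 2 :=
  Nat.le_of_dvd two_pos ((((piNat_compl_single_iff_coprime p3).1 q).pow_right 2).dvd_of_dvd_mul_left
    ((card_dvd l).trans (H.c18 k o).dvd))

theorem c6 (i : Iv s) (o : orderOf k = 3) (c : s * k = k * s) : 𝐂₁ s ⊓ 𝐂₁ k = zpowers k ⊔ zpowers s := by
  have l : zpowers k ⊔ zpowers s ≤ 𝐂₁ s ⊓ 𝐂₁ k := sup_le (zpowers_le.2 ⟨mem_cent1.2 c.symm, self_mem_cent1 k⟩)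
    (zpowers_le.2 ⟨self_mem_cent1 s, mem_cent1.2 c⟩)
  have e := card_sup_iv i (cn c) fun m => by simpa [card3 o, show orderOf s = 2 from i] using orderOf_dvd_card' m
  rw [card3 o] at e
  have d1 := card_dvd l
  have d2 := card_dvd (inf_le_right : 𝐂₁ s ⊓ 𝐂₁ k ≤ _)
  rw [H.c18 k o] at d2
  refine (eq_of_card_le l (not_lt.1 fun j => ?_)).symm
  obtain ⟨P, hP⟩ := BG.exists_syl 3 (𝐂₁ s ⊓ 𝐂₁ k)
  refine i.ne_one (eq_one_of_mem_bot (H.no2 P _ hP.pi (hP.dvd_card ?_ (piNat_pow_self p3 2))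
    (fun a ha => cn (mem_cent1.1 (hP.le ha).1)) i.piGrp) (mem_zpowers s))
  have := Nat.le_of_dvd (by decide) d2
  rw [e] at d1 j
  generalize ♯(𝐂₁ s ⊓ 𝐂₁ k : Subgroup G) = n at *
  interval_cases n <;> omega

theorem two (i : Iv s) (o : orderOf k = 3) (c : s * k = k * s) (e : PiElt {3}ᶜ a) (h1 : a ∈ 𝐂₁ s) (h2 : a ∈ 𝐂₁ k) :
    a ∈ zpowers s := by
  have n : zpowers a ≤ 𝐍 (zpowers s) := zpowers_le.2 (cn (mem_cent1.1 h1))
  have := H.le2 o (e.zpowers.sup (t23 i.piGrp) (.inl n)) (sup_le (zpowers_le.2 h2) (zpowers_le.2 (mem_cent1.2 c)))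
  exact (eq_of_card_le le_sup_right (by rw [i.card]; exact this)).ge (mem_sup_left (mem_zpowers a))

theorem mem_k (i : Iv s) (o : orderOf k = 3) (c : s * k = k * s) (e : a * a * a = 1) (h1 : a ∈ 𝐂₁ s) (h2 : a ∈ 𝐂₁ k) :
    a ∈ zpowers k := by
  refine ((mem_sup_iv i.sq (cn c)).1 ((H.c6 i o c).le ⟨h1, h2⟩)).resolve_right fun m => i.ne_one ?_
  have : (s * a) ^ 3 = 1 := orderOf_dvd_iff_pow_eq_one.1 (card3 o ▸ orderOf_dvd_card' m)
  rwa [(show Commute s a from (mem_cent1.1 h1).symm).mul_pow, pow_three' a, e, mul_one, pow_three', i.sq, one_mul] at this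

theorem sd (f : Fr t g z h) : ∃ y, Sd y t g z h := by
  obtain ⟨y, t', g', z', h', f'⟩ := H.ex
  obtain ⟨c, rfl, rfl, rfl, e | e⟩ := H.fr _ _ _ _ _ _ _ _ f'.toFr f
  exacts [⟨_, e ▸ f'.conj c⟩, ⟨_, by simpa only [e, inv_inv] using (f'.conj c).inv⟩]

theorem nm (f : Fr t g z h) (hn : n ∈ 𝐍 (zpowers g ⊔ zpowers h : Subgroup G)) (h1 : n ∈ 𝐂₁ t) (h2 : n ∈ 𝐂₁ z) :
    n = 1 ∨ n = t ∨ n = z ∨ n = t * z := by
  have mg : g ∈ zpowers g ⊔ zpowers h := mem_sup_left (mem_zpowers g)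
  have tn : t ∉ zpowers g ⊔ zpowers h := fun m => f.it.ne_one ((f.piM.elt m).eq_one (f.it.piElt.of_single' (by decide)))
  have e : zpowers g ⊔ zpowers h ⊔ zpowers t = 𝐂₁ g := eq_of_card_eq (sup_le (le_cent1_iff.2 (f.abM mg))
    (zpowers_le.2 (mem_cent1.2 f.tg))) (by rw [card_sup_iv f.it f.tM tn, f.cardM, H.c18 g f.og])
  have one : ∀ m ∈ zpowers g ⊔ zpowers h, m ∈ 𝐂₁ z → m = 1 := fun m hm c => (f.piM.elt hm).eq_one
    ((CIT.piElt_of_sq (mul_eq_one_iff_eq_inv.2 ((cjm (mem_cent1.1 c).symm).symm.trans (f.zM hm)))).of_single' (by decide))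
  have key : ∀ n ∈ 𝐂₁ g, n ∈ 𝐂₁ z → n = 1 ∨ n = t := fun n c d =>
    ((mem_sup_iv f.tt f.tM).1 (e.ge c)).imp (one n · d) fun m =>
      (eq_inv_of_mul_eq_one_right (one _ m (mul_mem (mem_cent1.2 f.tz) d))).trans f.it.inv_eq
  have o : orderOf (n * g * n⁻¹) = 3 := (orderOf_conj' n g).trans f.og
  rcases (mem3 f.og).1 (H.mem_k f.it f.og f.tg (cu3 o) (mul_mem (mul_mem h1 f.gC) (inv_mem h1))
    (le_cent1_iff.2 (f.abM mg) (conj_mem_of_norm hn mg))) with j | j | j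
  · exact absurd j (ne3 o)
  · exact (key n (mem_cent1.2 (cmj j)) h2).imp_right .inl
  · refine .inr (.inr ((key (z * n) (mem_cent1.2 (cmj ?_)) (mul_mem (self_mem_cent1 z) h2)).imp
      (fun j => (eq_inv_of_mul_eq_one_right j).trans f.iz.inv_eq) fun j => ?_))
    · rw [show z * n * g * (z * n)⁻¹ = z * (n * g * n⁻¹) * z⁻¹ by group, j, ← conj_inv, f.zg, inv_inv]
    · rw [f.tz, ← j, ← mul_assoc, f.zz, one_mul]

end Hy

/-- `P ∋ s` is a `3'`-group centralizing `s`, normalized by `k` -/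
structure Ac (s k : G) (P : Subgroup G) : Prop where
  i : Iv s
  o : orderOf k = 3
  c : s * k = k * s
  pi : PiGrp {3}ᶜ P
  mem : s ∈ P
  le : P ≤ 𝐂₁ s
  n : k ∈ 𝐍 P

namespace Ac
variable (m : Ac s k P)
include m

theorem inv : Ac s k⁻¹ P := ⟨m.i, inv3 m.o, (Commute.inv_right m.c :), m.pi, m.mem, m.le, inv_mem m.n⟩
theorem mono (l : K ≤ P) (hs : s ∈ K) (n : k ∈ 𝐍 K) : Ac s k K := ⟨m.i, m.o, m.c, m.pi.le l, hs, l.trans m.le, n⟩
theorem cj (hp : p ∈ P) : k * p * k⁻¹ ∈ P := conj_mem_of_norm m.n hp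
theorem cj' (hp : p ∈ P) : k⁻¹ * p * k ∈ P := conj_mem_of_norm' m.n hp
theorem nK : P ≤ 𝐍 (zpowers s) := fun _ hp => cn (mem_cent1.1 (m.le hp))

variable (H : Hy G)
include H

theorem cent : P ⊓ 𝐂₁ k = zpowers s := le_antisymm (fun _ ha => H.two m.i m.o m.c (m.pi.elt ha.1) (m.le ha.1) ha.2)
  (zpowers_le.2 ⟨m.mem, mem_cent1.2 m.c⟩)

theorem mod : ♯P % 3 = 2 := by
  haveI := Fact.mk p3
  have := Transfer.card_modEq_card_inf_centralizer (pi3 m.o).isPGroup (zpowers_le.2 m.n)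
  rwa [cent_zpowers, m.cent H, m.i.card] at this

theorem fp : Fp (qe (zpowers s) k) (qt (zpowers s) P) := by
  have n := cn m.c.symm
  refine ⟨by rw [← qe_mul n n, ← qe_mul (mul_mem n n) n, cu3 m.o, qe_one], ?_, ?_⟩
  · rw [← zpowers_le, ← qt_zpowers n]
    exact qt_norm _ (zpowers_le.2 m.n)
  · rw [← cent_zpowers, ← qt_zpowers n, ← qt_inf_cent' (zpowers_le.2 n) (zpowers_le.2 m.n)
      (Six.cop3 m.o m.i.piGrp) (.inl (abel_zpowers k).sol), cent_zpowers, m.cent H]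
    exact qt_of_le le_rfl

theorem nrm (hp : p ∈ P) : p * (k * p * k⁻¹) * (k⁻¹ * p * k) ∈ zpowers s := by
  have n := cn m.c.symm
  have l := m.nK hp
  have := (m.fp H).nrm (qe_mem_qt hp l)
  rwa [← qe_conj n l, ← qe_inv n, ← qe_mul (inv_mem n) l, ← qe_mul (mul_mem (inv_mem n) l) n,
    ← qe_mul l (m.nK (m.cj hp)), ← qe_mul (m.nK (mul_mem hp (m.cj hp))) (m.nK (m.cj' hp)),
    qe_eq_one (m.nK (mul_mem (mul_mem hp (m.cj hp)) (m.cj' hp)))] at this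

theorem cube (hp : p ∈ P) : p * k * (p * k) * (p * k) ∈ zpowers s := by
  convert m.nrm H hp using 1
  calc _ = p * (k * p * k⁻¹) * (k⁻¹ * (k * k * k) * p * k) := by group
    _ = _ := by rw [cu3 m.o]; group

theorem cmz (hp : p ∈ P) : ⁅p, k * p * k⁻¹⁆ ∈ zpowers s := by
  have n := cn m.c.symm
  have l := m.nK hp
  rw [← qe_eq_one (m.nK (commutatorElement_def p _ ▸ mul_mem (mul_mem (mul_mem hp (m.cj hp)) (inv_mem hp))
    (inv_mem (m.cj hp)))), qe_comm l (m.nK (m.cj hp)), qe_conj n l, commutatorElement_eq_one_iff_mul_comm]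
  exact (m.fp H).comm (qe_mem_qt hp l)

theorem comm (hp : p ∈ P) (e : p * p = 1) : p * (k * p * k⁻¹) = k * p * k⁻¹ * p := by
  have c1 := mem_cent1.1 (m.le (m.cj' hp))
  have e1 : k⁻¹ * p * k * (k⁻¹ * p * k) = 1 := by simpa using IC.conj_sq e k⁻¹
  have e2 := IC.conj_sq e k
  have t2 := m.i.sq
  have n := m.i.mem_zpowers.1 (m.nrm H hp)
  generalize k * p * k⁻¹ = a at *
  generalize k⁻¹ * p * k = b at *
  have : p * a * (p * a) = 1 := by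
    rcases n with n | n <;> rw [eq_mul_inv_of_mul_eq n, inv_eq_of_mul_eq_one_right e1]
    · simpa using e1
    · calc s * b * (s * b) = s * (b * s) * b := by group
        _ = s * s * (b * b) := by rw [c1]; group
        _ = 1 := by rw [t2, e1, mul_one]
  rw [eq_inv_of_mul_eq_one_left this, mul_inv_rev, inv_eq_of_mul_eq_one_right e, inv_eq_of_mul_eq_one_right e2]

theorem bound (zz : z * z = 1) (c : z * s = s * z) (n : z ∈ 𝐍 P) (e : z * k * z⁻¹ = k⁻¹) :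
    2 * ♯P ≤ ♯(P ⊓ centMod (zpowers z) (zpowers s) : Subgroup G) * ♯(P ⊓ centMod (zpowers z) (zpowers s) : Subgroup G) := by
  have nz := cn c
  have nk := cn m.c.symm
  have := Fp.bound (z := qe _ z) (m.fp H) (by rw [← qe_mul nz nz, zz, qe_one])
    (by rw [← zpowers_le, ← qt_zpowers nz]; exact qt_norm _ (zpowers_le.2 n)) (by rw [← qe_conj nz nk, e, qe_inv nk])
  rw [← cent_zpowers, ← qt_zpowers nz, ← qt_inf_qp, qp_cent_eq (zpowers_le.2 nz), card_qt m.nK,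
    card_qt (inf_le_left.trans m.nK)] at this
  rw [← card_mul_relIndex (zpowers_le.2 m.mem), ← card_mul_relIndex (K := P ⊓ centMod (zpowers z) (zpowers s))
    (zpowers_le.2 ⟨m.mem, by rw [← qp_cent_eq (zpowers_le.2 nz)]; exact le_qp _ (mem_zpowers s)⟩), m.i.card]
  nlinarith

end Ac

/-- the largest normal `3'`-subgroup of `C(s)` -/
abbrev Nn (s : G) : Subgroup G := 𝐎 {3}ᶜ (𝐂₁ s)
/-- the largest normal `2`-subgroup of `C(s)` -/
abbrev Qq (s : G) : Subgroup G := 𝐎 {2} (𝐂₁ s)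

theorem cj_N (c s : G) : cj c (Nn s) = Nn (c * s * c⁻¹) := by rw [cj_O, cj_cent1]
theorem cj_Q (c s : G) : cj c (Qq s) = Qq (c * s * c⁻¹) := by rw [cj_O, cj_cent1]
theorem Q_le_N : Qq s ≤ Nn s := O_mono _ (by simp)
theorem Q_le : Qq s ≤ 𝐂₁ s := O_le _ _
theorem N_le : Nn s ≤ 𝐂₁ s := O_le _ _
theorem Q_two : P2 (Qq s) := O_pi _ _
theorem nQ (hc : c ∈ 𝐂₁ s) : c ∈ 𝐍 (Qq s) := (O_normal _ _).norm hc
theorem nN (hc : c ∈ 𝐂₁ s) : c ∈ 𝐍 (Nn s) := (O_normal _ _).norm hc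
theorem mem_Q (i : Iv s) : s ∈ Qq s :=
  le_O (π := {2}) ⟨zpowers_le.2 (self_mem_cent1 s), (norm_zp i).ge⟩ i.piGrp (mem_zpowers s)
theorem Fr.acN (f : Fr t g z h) : Ac t g (Nn t) := ⟨f.it, f.og, f.tg, O_pi _ _, Q_le_N (mem_Q f.it), N_le, nN f.gC⟩
theorem Fr.acQ (f : Fr t g z h) : Ac t g (Qq t) := f.acN.mono Q_le_N (mem_Q f.it) (nQ f.gC)

theorem Fr.z_N (f : Fr t g z h) : z ∉ Nn t := fun m => not_mem3 (O_pi _ _) f.og (by
  have := mul_mem (conj_mem_of_norm (nN f.gC) m) (inv_mem m)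
  rwa [← f.zg, show g * z * (z * g * z⁻¹) * z⁻¹ = g * (z * z) * g * (z * z)⁻¹ by group, f.zz, mul_one, inv_one, mul_one,
    eq_inv_of_mul_eq_one_left (cu3 f.og), inv_mem_iff] at this)

/-- `ρ` induces an isomorphism from `C(s)/O₃'(C(s))` to `Γ` -/
structure Rh (s : G) (ρ : G → Γ) : Prop where
  mul : ∀ a ∈ 𝐂₁ s, ∀ b ∈ 𝐂₁ s, ρ (a * b) = ρ a * ρ b
  sj : ∀ γ, ∃ c ∈ 𝐂₁ s, ρ c = γ
  ker : ∀ c ∈ 𝐂₁ s, ρ c = 1 ↔ c ∈ Nn s
  nil : Nil (Nn s)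

/-- the top of the centralizer -/
def Tp (Γ : Type) [Group Γ] (s : G) : Prop := ∃ ρ : G → Γ, Rh s ρ

namespace Rh
variable {ρ : G → Γ} (R : Rh s ρ)
include R

/-- the bundled map -/
def hom : 𝐂₁ s →* Γ := MonoidHom.mk' (fun c => ρ c) fun a b => R.mul a a.2 b b.2

theorem one : ρ 1 = 1 := R.hom.map_one
theorem inv (ha : a ∈ 𝐂₁ s) : ρ a⁻¹ = (ρ a)⁻¹ := R.hom.map_inv ⟨a, ha⟩
theorem cj (ha : a ∈ 𝐂₁ s) (hb : b ∈ 𝐂₁ s) : ρ (a * b * a⁻¹) = ρ a * ρ b * (ρ a)⁻¹ := by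
  rw [R.mul _ (mul_mem ha hb) _ (inv_mem ha), R.mul a ha b hb, R.inv ha]
theorem eq (ha : a ∈ 𝐂₁ s) (hb : b ∈ 𝐂₁ s) : ρ a = ρ b ↔ a⁻¹ * b ∈ Nn s := by
  rw [← R.ker _ (mul_mem (inv_mem ha) hb), R.mul _ (inv_mem ha) b hb, R.inv ha, inv_mul_eq_one]
theorem cm (ha : a ∈ 𝐂₁ s) (hb : b ∈ 𝐂₁ s) : ρ a * ρ b = ρ b * ρ a ↔ ⁅a, b⁆ ∈ Nn s := by
  rw [commutatorElement_def, ← R.ker _ (mul_mem (mul_mem (mul_mem ha hb) (inv_mem ha)) (inv_mem hb)),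
    R.mul _ (mul_mem (mul_mem ha hb) (inv_mem ha)) _ (inv_mem hb), R.cj ha hb, R.inv hb, mul_inv_eq_one,
    mul_inv_eq_iff_eq_mul]
theorem cm' (ha : a ∈ 𝐂₁ s) (hb : b ∈ 𝐂₁ s) (e : a * b = b * a) : ρ a * ρ b = ρ b * ρ a := by
  rw [← R.mul a ha b hb, e, R.mul b hb a ha]

theorem conj (c : G) : Rh (c * s * c⁻¹) fun a => ρ (c⁻¹ * a * c) := by
  have m : ∀ {a}, a ∈ 𝐂₁ (c * s * c⁻¹) ↔ c⁻¹ * a * c ∈ 𝐂₁ s := by intro a; rw [← cj_cent1, mem_cj]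
  refine ⟨fun a ha b hb => ?_, fun γ => ?_, fun a ha => ?_, cj_N c s ▸ R.nil.map _⟩
  · rw [← R.mul _ (m.1 ha) _ (m.1 hb)]; congr 1; group
  · obtain ⟨a, ha, rfl⟩ := R.sj γ
    exact ⟨c * a * c⁻¹, m.2 (by simpa [mul_assoc] using ha), by congr 1; group⟩
  · rw [R.ker _ (m.1 ha), ← cj_N, mem_cj]

theorem idx (l : X ≤ 𝐂₁ s) {Y : Subgroup Γ} (e : ∀ x ∈ X, ρ x ∈ Y) : (Nn s).relIndex X ∣ ♯Y := by
  have k : (Nn s).subgroupOf (𝐂₁ s) = R.hom.ker := by ext x; exact (R.ker x x.2).symm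
  rw [← relIndex_subgroupOf l, k, relIndex_ker]
  exact card_dvd (by rintro _ ⟨x, hx, rfl⟩; exact e x hx)

theorem memQ (ha : a ∈ Nn s) (e : E2 a) : a ∈ Qq s :=
  (O_O_of_subset (π := {2}) (ρ := {3}ᶜ) (𝐂₁ s) (by simp)).le (R.nil.mem_O ha e)

end Rh

theorem Tp.conj (R : Tp Γ s) (c : G) : Tp Γ (c * s * c⁻¹) := let ⟨_, R⟩ := R; ⟨_, R.conj c⟩
theorem Tp.fr (R : Tp Γ t) (H : Hy G) (f : Fr t g z h) {t' g' z' h' : G} (f' : Fr t' g' z' h') : Tp Γ t' :=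
  let ⟨c, e, _⟩ := H.fr _ _ _ _ _ _ _ _ f f'; e ▸ R.conj c

theorem tp_of (i : Iv t) {N : Subgroup (Quo (zpowers t))} [N.Normal] (nil : Nil N) (c : ¬ 3 ∣ ♯N)
    (e : Quo (zpowers t) ⧸ N ≃* Γ) (hΓ : ∀ Y : Subgroup Γ, Y.Normal → ¬ 3 ∣ ♯Y → Y = ⊥) :
    Tp Γ t ∧ qp (zpowers t) N = Nn t := by
  have n := (norm_zp i).ge
  let π : 𝐍 (zpowers t) →* Γ := (e.toMonoidHom.comp (QuotientGroup.mk' N)).comp (qmk _)
  have sj : Function.Surjective π := (e.surjective.comp (QuotientGroup.mk'_surjective N)).comp (qmk_surj _)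
  have k : ∀ c, π c = 1 ↔ c.1 ∈ qp (zpowers t) N := fun c => by
    rw [mem_qp, and_iff_right c.2, qe_coe, ← QuotientGroup.eq_one_iff]
    exact e.map_eq_one_iff
  have E : qp (zpowers t) N = Nn t := le_antisymm (le_O (norm_zp i ▸ NormalIn.qp_of_qt (by
      rw [qt_norm_eq_top]; exact normalIn_top.2 inferInstance) (normalIn_norm _)) (by
      rw [PiGrp, card_qp, i.card]
      exact ((piNat_compl_single p3).2 (by decide)).mul ((piNat_compl_single p3).2 c))) fun x hx => by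
    have nn : ((Nn t).subgroupOf (𝐍 (zpowers t))).Normal := NormalIn.normal (norm_zp i ▸ O_normal _ _)
    refine (k ⟨x, n (N_le hx)⟩).1 (eq_one_of_mem_bot (hΓ _ (nn.map π sj) fun d => nd3' (O_pi _ (𝐂₁ t)) ?_) ⟨_, hx, rfl⟩)
    exact d.trans ((card_map_dvd _ π).trans (card_subgroupOf' (N_le.trans n)).dvd)
  refine ⟨⟨fun c => e (QuotientGroup.mk (qe _ c)), fun a ha b hb => ?_, fun γ => ?_, fun c hc => ?_, ?_⟩, E⟩
  · rw [qe_mul (n ha) (n hb), QuotientGroup.mk_mul, map_mul]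
  · obtain ⟨c, rfl⟩ := sj γ
    exact ⟨c, norm_zp i ▸ c.2, by rw [qe_coe]; rfl⟩
  · rw [← E, ← k ⟨c, n hc⟩, qe_eq (n hc)]; rfl
  · exact nil_of_qt_center (K := zpowers t) (zpowers_le.2 ⟨Q_le_N (mem_Q i), le_cent1_iff.1 N_le⟩) (by
      rw [← E, qt_qp]; exact nil)

/-- the symmetric group of degree three -/
abbrev S3 := Equiv.Perm (Fin 3)
/-- the alternating group of degree five -/
abbrev A5 := alternatingGroup (Fin 5)

theorem Hy.tri (H : Hy G) (f : Fr t g z h) : Tp S3 t ∨ (Tp A5 t ∧ P2 (Nn t)) ∨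
    ∃ φ : 𝐂₁ t →* PSL(2, ZMod 7), Function.Surjective φ ∧ ∀ c, φ c = 1 ↔ c.1 ∈ zpowers t := by
  have e := norm_zp f.it
  have n := e.ge
  have a := zpowers_le.2 (n f.gC)
  have c : ♯(qt (zpowers t) (zpowers g)) = 3 := by
    rw [card_qt_of_inf_bot a (f.it.piGrp.inf_eq_bot (odd3 f.og)), card3 f.og]
  have sc : 𝐂 (qt (zpowers t) (zpowers g)) = qt (zpowers t) (zpowers g) := by
    have := qt_inf_cent' (H := 𝐍 (zpowers t)) a (a.trans (le_norm_self _)) (Six.cop3 f.og f.it.piGrp)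
      (.inr f.it.piGrp.sol)
    rw [qt_norm_eq_top, top_inf_eq] at this
    rw [← this, cent_zpowers, e, H.c6 f.it f.og f.tg, qt_sup_right a]
  rcases Agent.S3331.result _ c sc with ⟨N, _, nil, d, j | ⟨⟨j⟩⟩⟩ | ⟨N, _, _, d, ⟨j⟩⟩ | ⟨⟨j⟩⟩
  · exfalso
    haveI := Fact.mk p3
    haveI := isCyclic_of_prime_card j
    let π := (QuotientGroup.mk' N).comp (qmk (zpowers t))
    have k : π ⟨g, n f.gC⟩ * π ⟨g, n f.gC⟩ = 1 := by
      have := congrArg π (show (⟨z, n f.zC⟩ * ⟨g, n f.gC⟩ * ⟨z, n f.zC⟩⁻¹ : 𝐍 (zpowers t)) = ⟨g, n f.gC⟩⁻¹ from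
        Subtype.ext f.zg)
      rw [map_mul, map_mul, map_inv, map_inv, cjm (IsCyclic.commutative.is_comm.comm _ _)] at this
      exact mul_eq_one_iff_eq_inv.2 this
    have k' : π ⟨g, n f.gC⟩ * π ⟨g, n f.gC⟩ * π ⟨g, n f.gC⟩ = 1 := by
      rw [← map_mul, ← map_mul, ← π.map_one]; exact congrArg π (Subtype.ext (cu3 f.og))
    rw [k, one_mul] at k'
    have := card_dvd (zpowers_le.2 ((QuotientGroup.eq_one_iff _).1 k'))
    rw [← qe_eq, ← qt_zpowers (n f.gC), c] at this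
    exact (Nat.Prime.coprime_iff_not_dvd p3).1 d.symm this
  · refine .inl (tp_of f.it nil ((Nat.Prime.coprime_iff_not_dvd p3).1 d.symm) j fun Y nY c => eq_bot_of_forall fun x hx => ?_).1
    by_contra x1
    obtain ⟨a, j1, j2⟩ := (by decide +kernel : ∀ x : S3, x ≠ 1 → ∃ a, a * x * a⁻¹ * x ≠ 1 ∧
      a * x * a⁻¹ * x * (a * x * a⁻¹ * x) * (a * x * a⁻¹ * x) = 1) x x1
    exact c ((ord3 j2 j1).symm.dvd.trans (orderOf_dvd_card' (mul_mem (nY.conj_mem x hx a) hx)))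
  · have k : P2 N := piGrp_of_forall_elt fun x hx => piElt_of_pow_eq_one p2 (d x hx)
    obtain ⟨a, b⟩ := tp_of f.it k.nil (nd3 k) j fun Y nY c => nY.eq_bot_or_eq_top.resolve_right fun e => c (by
      rw [e, card_top', nat_card_alternatingGroup, Nat.card_fin]; decide)
    exact .inr (.inl ⟨a, by rw [← b, PiGrp, card_qp]; exact f.it.piGrp.mul k⟩)
  · let ι : 𝐂₁ t →* 𝐍 (zpowers t) := inclusion n
    refine .inr (.inr ⟨(j.toMonoidHom.comp (qmk _)).comp ι, j.surjective.comp ((qmk_surj _).comp fun c =>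
      ⟨⟨c, e.le c.2⟩, rfl⟩), fun c => ?_⟩)
    rw [← qe_eq_one (n c.2), qe_eq (n c.2)]
    exact j.map_eq_one_iff

end CF.P11
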