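/-
Groups with the `3`-local structure of `M₁₁`: an involution centralizing a frame generates `S₆`.
-/
import Cfsg.Agent.P11.B
import Cfsg.Agent.Fisch.SymCox
set_option autoImplicit false
set_option linter.unusedSectionVars false

namespace CF.P11
open Subgroup Cfsg CF.BG CF.GW CF.Ab2 Equiv
open CF.Six (cu3 ne3 ord3 inv3 card3 pi3 odd3 nd3 cn p3 norm_zp Fp)
open scoped commutatorElement

variable {G : Type*} [Group G] [Finite G]
variable {K M P T U X : Subgroup G} {a b c e g h k n p r s t u v x y z : G}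

theorem braid (ha : a * a = 1) (hb : b * b = 1) (e : a * b * (a * b) * (a * b) = 1) : a * b * a = b * a * b := by
  calc _ = a * b * (a * b) * (a * b) * (b * a * b)⁻¹ := by group
    _ = _ := by rw [e, mul_inv_rev, mul_inv_rev, inv_eq_of_mul_eq_one_right ha, inv_eq_of_mul_eq_one_right hb]; group

theorem swp (ha : a * a = 1) (hb : b * b = 1) (hc : c * c = 1) (e : a * c = c * a) (h1 : a * b * a = b * a * b)
    (h2 : c * b * c = b * c * b) : b * (a * c) * b * a = c * (b * (a * c) * b) := by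
  calc _ = b * c * (a * b * a) := by rw [e]; group
    _ = b * c * b * a * b := by rw [h1]; group
    _ = c * (b * (c * a) * b) := by rw [← h2]; group
    _ = _ := by rw [e]

theorem tri3 (hk : k * k * k = 1) (e : x * k * (x * k) * (x * k) = 1) : x * (k * x * k⁻¹) * (k⁻¹ * x * k) = 1 := by
  calc _ = x * k * (x * k) * (k * k * k)⁻¹ * (x * k) := by group
    _ = 1 := by rw [hk, inv_one, mul_one, e]

theorem comm3 (ha : a * a = 1) (hb : b * b = 1) (hc : c * c = 1) (e : a * b * c = 1) : a * b = b * a := by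
  rw [eq_inv_of_mul_eq_one_left e, ← inv_eq_of_mul_eq_one_right ha, ← inv_eq_of_mul_eq_one_right hb, ← mul_inv_rev,
    eq_inv_of_mul_eq_one_left e, inv_inv, inv_eq_of_mul_eq_one_right hc]

theorem sqc (e : x * x = 1) (k : G) : k⁻¹ * x * k * (k⁻¹ * x * k) = 1 := by simpa using IC.conj_sq e k⁻¹

theorem cube_mul (c1 : s * x = x * s) (c2 : s * k = k * s) (i : s * s = 1) :
    x * s * k * (x * s * k) * (x * s * k) = x * k * (x * k) * (x * k) * s := by
  have : Commute (x * k) s := (Commute.mul_right c1 c2).symm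
  rw [show x * s * k = x * k * s by rw [mul_assoc, c2, mul_assoc], ← pow_three', this.mul_pow, pow_three', pow_three' s,
    i, one_mul]

namespace Fr
variable (f : Fr t g z h)
include f

theorem inv' : Fr t g⁻¹ z h := by simpa only [f.tzz] using f.swap.inv.swap

theorem bb : h * t * (h * t) = 1 := by
  rw [show h * t * (h * t) = h * (t * h * t⁻¹) * (t * t) by group, f.th, f.tt]; group

theorem br0 : t * (h * t) * t = h * t * t * (h * t) := by
  rw [mul_assoc h t t, f.tt, mul_one, mul_assoc t, mul_assoc h, f.tt, mul_one, ← mul_assoc,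
    eq_inv_of_mul_eq_one_left (cu3 f.oh), ← f.th, inv_mul_cancel_right]

theorem cinv (c : t * e = e * t) (j : e * h * (e * h) * (e * h) = 1) : e * h⁻¹ * (e * h⁻¹) * (e * h⁻¹) = 1 := by
  have : e * h⁻¹ = t * (e * h) * t⁻¹ := by rw [← conj_mul, cjm c, f.th]
  rw [this, conj_mul, conj_mul, j, mul_one, mul_inv_cancel]

theorem br1 (i : e * e = 1) (c : t * e = e * t) (j : e * h * (e * h) * (e * h) = 1) :
    e * t * (e * t) = 1 ∧ e * t * (h * t) * (e * t) = h * t * (e * t) * (h * t) := by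
  have a : e * t * (e * t) = 1 := by rw [mul_assoc, ← mul_assoc t, c, mul_assoc, f.tt, mul_one, i]
  refine ⟨a, braid a f.bb ?_⟩
  rw [show e * t * (h * t) = e * h⁻¹ by rw [← f.th, f.it.inv_eq]; group]
  exact f.cinv c j

theorem gb : g * (h * t) = h * t * g := by rw [← mul_assoc, f.gh, mul_assoc, ← f.tg, mul_assoc]

theorem brc (j : a * (h * t) * a = h * t * a * (h * t)) (c : k * (h * t) = h * t * k) :
    k * a * k⁻¹ * (h * t) * (k * a * k⁻¹) = h * t * (k * a * k⁻¹) * (h * t) := by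
  have := congrArg (fun w => k * w * k⁻¹) j
  simpa only [← conj_mul, cjm c] using this

theorem c00 (i : x * x = 1) (c : t * x = x * t) (j1 : x * g * (x * g) * (x * g) = 1)
    (j2 : x * h * (x * h) * (x * h) = 1) : h * x * h⁻¹ * (g * x * g⁻¹) = g * x * g⁻¹ * (h * x * h⁻¹) := by
  obtain ⟨a1, b1⟩ := f.br1 i c j2
  have b2 := f.brc b1 f.gb
  have b3 := f.brc b1 (Commute.inv_left f.gb :)
  have n := tri3 (cu3 f.og) j1
  rw [← conj_mul, cjm f.tg.symm] at b2
  rw [← conj_mul, cjm (Commute.inv_left f.tg.symm :), inv_inv] at b3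
  have s2 := IC.conj_sq i g
  have s3 := sqc i g
  have c2 : t * (g * x * g⁻¹) = g * x * g⁻¹ * t := cmj (by rw [← conj_mul, ← conj_mul, ← conj_inv, cjm f.tg, cjm c])
  have c3 : t * (g⁻¹ * x * g) = g⁻¹ * x * g * t := cmj (by rw [← conj_mul, ← conj_mul, ← conj_inv, cjm f.tg, cjm c])
  have v : h * x * h⁻¹ = h * t * x * (h * t) := by
    rw [← f.th, f.it.inv_eq, show h * x * (t * h * t) = h * (x * t) * (h * t) by group, ← c, ← mul_assoc h t x]
  have tt := f.tt
  have bb := f.bb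
  have b0 := f.br0
  generalize g * x * g⁻¹ = x2 at *
  generalize g⁻¹ * x * g = x3 at *
  generalize h * t = b at *
  have e23 : x2 * x3 = x := by rw [mul_assoc] at n; rw [eq_inv_of_mul_eq_one_right n, inv_eq_of_mul_eq_one_right i]
  have e32 : x3 * x2 = x := by rw [← e23]; exact (comm3 s2 s3 i (by rw [e23, i])).symm
  have q : ∀ {u v}, t * u = u * t → u * t * (v * t) = u * (t * v) * t := by intros; group
  have w1 := swp tt bb a1 (by rw [← mul_assoc, c]) b0 b1
  have w2 := swp (a := x2 * t) (c := x3 * t) (by rw [q c2, c2, ← mul_assoc, s2, one_mul, tt]) bb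
    (by rw [q c3, c3, ← mul_assoc, s3, one_mul, tt]) (by
      rw [q c2, q c3, c2, c3, ← mul_assoc, ← mul_assoc, e23, e32]) b2 b3
  rw [← mul_assoc t, c, mul_assoc x, tt, mul_one] at w1
  rw [q c2, c3, ← mul_assoc x2, e23, mul_assoc x, tt, mul_one] at w2
  rw [v]
  generalize b * x * b = w at *
  calc w * x2 = w * (x2 * t) * t := by rw [mul_assoc, mul_assoc, tt, mul_one]
    _ = x3 * t * (x * t) * w := by rw [w2, mul_assoc, w1]; group
    _ = _ := by rw [q c3, c, ← mul_assoc, mul_assoc _ t t, tt, mul_one, ← e32, ← mul_assoc, s3, one_mul]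

theorem c01 (i : x * x = 1) (c : t * x = x * t) (j1 : x * g * (x * g) * (x * g) = t)
    (j2 : x * h * (x * h) * (x * h) = 1) : False := by
  obtain ⟨a1, b1⟩ := f.br1 i c j2
  have b2 := f.brc b1 f.gb
  have b3 := f.brc b1 (Commute.inv_left f.gb :)
  have n := tri3 (x := x * t) (cu3 f.og) (by rw [cube_mul c f.tg f.tt, j1, f.tt])
  have gb := f.gb
  have bb := f.bb
  have b1' : h * t ≠ 1 := fun e => ne_inv3 f.oh (by rw [← f.th, eq_inv_of_mul_eq_one_right e]; group)
  rw [inv_inv] at b3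
  generalize x * t = a at *
  generalize h * t = b at *
  have s2 := IC.conj_sq a1 g
  have s3 := sqc a1 g
  have c12 := comm3 a1 s2 s3 n
  have w1 := swp a1 bb s2 c12 b1 b2
  have w2 := swp s2 bb a1 c12.symm b2 b1
  rw [← c12] at w2
  have e3 : a * (g * a * g⁻¹) = g⁻¹ * a * g := by rw [eq_inv_of_mul_eq_one_left n, inv_eq_of_mul_eq_one_right s3]
  have : b * (g⁻¹ * a * g) * b * (g⁻¹ * a * g) = g⁻¹ * a * g * (b * (g⁻¹ * a * g) * b) := by
    rw [← e3, ← mul_assoc _ a, w1, mul_assoc (g * a * g⁻¹), w2, ← mul_assoc, ← c12]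
  rw [← b3, mul_assoc _ (g⁻¹ * a * g), s3, mul_one, mul_assoc (g⁻¹ * a * g) b, ← mul_assoc (g⁻¹ * a * g), s3,
    one_mul] at this
  rw [this, mul_assoc b, s3, mul_one, mul_assoc b, this, ← mul_assoc, bb, one_mul] at b3
  have e : a = b := by rw [← cjm gb, b3]; group
  rw [← b3, e, cjm gb, bb, one_mul] at n
  exact b1' n

end Fr

/-- permutations of six points -/
abbrev S6 := Perm (Fin 6)
def pT : S6 := swap 4 5
def pZ : S6 := swap 4 5 * swap 0 1
def pG : S6 := swap 1 2 * swap 0 1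
def pH : S6 := swap 3 4 * swap 4 5
def pX : S6 := swap 2 3 * pZ
def pW : S6 := swap 0 5 * swap 1 4 * swap 2 3
def pK : S6 := swap 0 4 * swap 0 2 * (swap 1 5 * swap 1 3)
def pL : S6 := swap 0 4 * swap 0 2 * (swap 1 3 * swap 1 5)
def pY : S6 := swap 0 4 * swap 1 5

theorem frW : Fr pW (pG * pH) pZ (pG * pH⁻¹) :=
  ⟨by decide, by decide, by decide, ord3 (by decide) (by decide), ord3 (by decide) (by decide), by decide, by decide,
    by decide, by decide, by decide⟩

theorem frX : Fr pX pK pY pL :=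
  ⟨by decide, by decide, by decide, ord3 (by decide) (by decide), ord3 (by decide) (by decide), by decide, by decide,
    by decide, by decide, by decide⟩

theorem Hy.key (H : Hy G) (f : Fr t g z h) (i : Iv x) (c1 : t * x = x * t) (c2 : z * x = x * z)
    (j1 : x * g * (x * g) * (x * g) ∈ zpowers t) (j2 : x * h * (x * h) * (x * h) ∈ zpowers (t * z)) :
    ∃ φ : S6 →* G, Function.Injective φ ∧ φ pT = t ∧ φ pG = g ∧ φ pZ = z ∧ φ pH = h ∧ φ pX = x := by
  have c3 : t * z * x = x * (t * z) := Commute.mul_left c1 c2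
  rcases f.it.mem_zpowers.1 j1 with j1 | j1 <;> rcases f.swap.it.mem_zpowers.1 j2 with j2 | j2
  · exfalso
    have o : ∀ k, k * k * k = 1 → x * k * (x * k) * (x * k) = 1 → x * (k * x * k⁻¹) = k * x * k⁻¹ * x := fun k a b =>
      comm3 i.sq (IC.conj_sq i.sq k) (sqc i.sq k) (tri3 a b)
    have g1 := f.swap.cinv c3 j1
    have h1 := f.cinv c1 j2
    have cm : ∀ m ∈ zpowers g ⊔ zpowers h, x * (m * x * m⁻¹) = m * x * m⁻¹ * x := fun m hm => by
      obtain ⟨b, hb, a, ha, rfl⟩ := (mem_sup_norm' (zpowers_le.2 (cn f.gh))).1 (sup_comm (zpowers g) _ ▸ hm)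
      have : b⁻¹ * x * b⁻¹⁻¹ * (a * x * a⁻¹) = a * x * a⁻¹ * (b⁻¹ * x * b⁻¹⁻¹) := by
        rcases (mem3 f.og).1 ha with rfl | rfl | rfl <;> rcases (mem3 f.oh).1 (inv_mem hb) with e | e | e <;> rw [e]
        exacts [by simpa using (o _ (cu3 f.oh) j2).symm, by simpa using (o _ (cu3 (inv3 f.oh)) h1).symm,
          by simpa using o _ (cu3 f.og) j1, f.c00 i.sq c1 j1 j2, f.inv.c00 i.sq c1 j1 h1,
          by simpa using o _ (cu3 (inv3 f.og)) g1, f.inv'.c00 i.sq c1 g1 j2, f.inv'.inv.c00 i.sq c1 g1 h1]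
      calc _ = b * (b⁻¹ * x * b⁻¹⁻¹ * (a * x * a⁻¹)) * b⁻¹ := by group
        _ = _ := by rw [this]; group
    let S : Set G := {w | ∃ m ∈ zpowers g ⊔ zpowers h, m * x * m⁻¹ = w}
    have ab : Abel (closure S) := by
      rw [Abel, centralizer_closure, closure_le]
      rintro _ ⟨a, ha, rfl⟩ _ ⟨b, hb, rfl⟩
      calc _ = b * (x * (b⁻¹ * a * x * (b⁻¹ * a)⁻¹)) * b⁻¹ := by group
        _ = _ := by rw [cm _ (mul_mem (inv_mem hb) ha)]; group
    refine i.ne_one (eq_one_of_mem_bot (H.no2 _ (closure S) f.piM f.cardM.symm.dvd (le_norm_of_cj_le fun a ha => ?_)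
      ((ab.abelem_Om p2).pi.le ((closure_le _).2 ?_))) (subset_closure ⟨1, one_mem _, by group⟩))
    · rw [cj, MonoidHom.map_closure]
      refine closure_mono ?_
      rintro _ ⟨_, ⟨b, hb, rfl⟩, rfl⟩
      exact ⟨a * b, mul_mem ha hb, by simp [mul_assoc]⟩
    · rintro _ ⟨b, hb, rfl⟩
      exact mem_Om (subset_closure ⟨b, hb, rfl⟩) (by rw [sq, IC.conj_sq i.sq])
  · exact (f.swap.c01 i.sq c3 j2 j1).elim
  · exact (f.c01 i.sq c1 j1 j2).elim
  have xt : ∀ {s}, s * s = 1 → s * x = x * s → x * s * (x * s) = 1 := fun {s} a b => by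
    rw [mul_assoc, ← mul_assoc s, b, mul_assoc, a, mul_one, i.sq]
  obtain ⟨a1, b1⟩ := f.br1 (xt f.swap.tt c3) (Commute.mul_right c1 (by rw [Commute, SemiconjBy, mul_assoc, ← f.tz]))
    (by rw [cube_mul c3 f.swap.tg f.swap.tt, j2, f.swap.tt])
  obtain ⟨-, b2⟩ := f.swap.br1 (xt f.tt c1) (Commute.mul_right c3 (by rw [Commute, SemiconjBy, mul_assoc, ← f.tz]))
    (by rw [cube_mul c1 f.tg f.tt, j1, f.tt])
  rw [mul_assoc x, mul_assoc t, ← f.tz, f.ttz] at a1 b1
  rw [mul_assoc x, f.ttz] at b2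
  have tz : Commute t z := f.tz
  have d1 : Commute (t * z) t := ((Commute.refl t).mul_right tz).symm
  have d2 : Commute g t := f.tg.symm
  have d3 : Commute (t * z) (h * t) := Commute.mul_right f.swap.tg d1
  obtain ⟨φ, e⟩ := Fisch.sym_exists_hom 5 ![t * z, g * (t * z), x * z, h * t, t]
    (fun i => by fin_cases i; exacts [f.swap.tt, f.swap.bb, a1, f.bb, f.tt])
    (fun i j l => by
      fin_cases i <;> fin_cases j <;> simp at l
      exacts [Commute.mul_right c3 (tz.mul_left (Commute.refl z)), d3, d1, Commute.mul_left f.gb d3, d2.mul_left d1,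
        Commute.mul_left c1.symm tz.symm])
    (fun i j l => by
      fin_cases i <;> fin_cases j <;> simp at l
      exacts [f.swap.br0, b2.symm, b1, f.br0.symm])
  have e0 : φ (swap 0 1) = t * z := e 0
  have e1 : φ (swap 1 2) = g * (t * z) := e 1
  have e2 : φ (swap 2 3) = x * z := e 2
  have e3 : φ (swap 3 4) = h * t := e 3
  have e4 : φ (swap 4 5) = t := e 4
  have eZ : φ pZ = z := by rw [pZ, map_mul, e4, e0, f.ttz]
  have eG : φ pG = g := by rw [pG, map_mul, e1, e0, mul_assoc, f.swap.tt, mul_one]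
  refine ⟨φ, φ.ker_eq_bot_iff.1 (by_contra fun j => ne3 f.og (eG ▸ Perm.alternatingGroup_le_of_normal (by simp)
    ((nontrivial_iff_ne_bot _).2 j) (Perm.mem_alternatingGroup.2 (by decide)))), e4, eG, eZ,
    by rw [pH, map_mul, e3, e4, mul_assoc, f.tt, mul_one], by rw [pX, map_mul, e2, eZ, mul_assoc, f.zz, mul_one]⟩

end CF.P11
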