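/-
Groups with the `3`-local structure of `M₁₁`: the intersection `O₂(C(t)) ∩ O₂(C(tz))`.
-/
import Cfsg.Agent.P11.C
import Cfsg.Agent.Six.C
set_option autoImplicit false
set_option linter.unusedSectionVars false

namespace CF.P11
open Subgroup Cfsg CF.BG CF.GW CF.Ab2 Equiv
open CF.Six (cu3 ne3 ord3 inv3 card3 pi3 odd3 nd3 cn p3 norm_zp Fp zmod exists_zinv)
open scoped commutatorElement

variable {G : Type*} [Group G] [Finite G] {Γ : Type} [Group Γ] [Finite Γ]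
variable {K M P T U X : Subgroup G} {a b c e g h k n p r s t u v x y z t' g' z' h' : G}

/-- properties shared by `S₃` and `A₅` -/
def Gm (Γ : Type) [Group Γ] : Prop := ∀ ζ : Γ, ζ * ζ = 1 → ζ ≠ 1 → ∀ e, e * ζ = ζ * e → e * e = 1 ∧
  ∀ κ, κ * κ * κ = 1 → κ ≠ 1 → ζ * κ * ζ⁻¹ = κ⁻¹ → e * κ * (e * κ) * (e * κ) = 1 → e = 1

/-- a frame with top `Γ` -/
structure Cx (Γ : Type) [Group Γ] (t g z h : G) : Prop extends Fr t g z h where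
  H : Hy G
  gm : Gm Γ
  tp : Tp Γ t

/-- the centralizer of `⟨t, z⟩` -/
abbrev Uu (t z : G) : Subgroup G := 𝐂₁ t ⊓ 𝐂₁ z
/-- the intersection of the two `2`-cores -/
abbrev U0 (t z : G) : Subgroup G := Qq t ⊓ Qq (t * z)

theorem e2_of_sq (k : E2 (u * u)) : E2 u := ((piNat_self p2).mul k).dvd
  (orderOf_dvd_of_pow_eq_one (by rw [pow_mul, pow_two, pow_orderOf_eq_one]))
theorem comm_N (e : a * b = b * a) : ⁅a, b⁆ ∈ K := commutatorElement_eq_one_iff_mul_comm.2 e ▸ one_mem K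
theorem cj_U0 (c t z : G) : cj c (U0 t z) = U0 (c * t * c⁻¹) (c * z * c⁻¹) := by rw [cj_inf, cj_Q, cj_Q, ← conj_mul]
theorem cj_Uu (c t z : G) : cj c (Uu t z) = Uu (c * t * c⁻¹) (c * z * c⁻¹) := by rw [cj_inf, cj_cent1, cj_cent1]
theorem mem_Uu : u ∈ Uu t z ↔ u * t = t * u ∧ u * z = z * u := by rw [mem_inf, mem_cent1, mem_cent1]
theorem U_tz (hu : u ∈ Uu t z) : u ∈ 𝐂₁ (t * z) := mem_cent1.2 (Commute.mul_right (mem_Uu.1 hu).1 (mem_Uu.1 hu).2)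
theorem Fr.U_of (f : Fr t g z h) (h1 : u ∈ 𝐂₁ t) (h2 : u ∈ 𝐂₁ (t * z)) : u ∈ Uu t z :=
  ⟨h1, f.ttz ▸ U_tz ⟨h1, h2⟩⟩
theorem Fr.U0_le (f : Fr t g z h) : U0 t z ≤ Uu t z := fun _ hu => f.U_of (Q_le hu.1) (Q_le hu.2)
theorem U_norm : Uu t z ≤ 𝐍 (U0 t z) := norm_inf (fun _ hu => nQ hu.1) fun _ hu => nQ (U_tz hu)
theorem Fr.Uu_swap (f : Fr t g z h) : Uu (t * z) z = Uu t z :=
  le_antisymm (fun _ hu => ⟨f.tzz ▸ U_tz hu, hu.2⟩) fun _ hu => ⟨U_tz hu, hu.2⟩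

theorem Rh.zz {ρ : G → Γ} (R : Rh t ρ) (f : Fr t g z h) : ρ z * ρ z = 1 ∧ ρ z ≠ 1 :=
  ⟨by rw [← R.mul z f.zC z f.zC, f.zz, R.one], mt (R.ker z f.zC).1 f.z_N⟩

namespace Cx
variable (C : Cx Γ t g z h)
include C

theorem of (f : Fr t' g' z' h') : Cx Γ t' g' z' h' := ⟨f, C.H, C.gm, C.tp.fr C.H C.toFr f⟩
theorem sw : Cx Γ (t * z) h z g := C.of C.swap
theorem nil : Nil (Nn t) := let ⟨_, R⟩ := C.tp; R.nil
theorem memQ (ha : a ∈ Nn t) (e : E2 a) : a ∈ Qq t := let ⟨_, R⟩ := C.tp; R.memQ ha e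

theorem sqN (ha : a ∈ 𝐂₁ t) (c : ⁅a, z⁆ ∈ Nn t) : a * a ∈ Nn t := by
  obtain ⟨ρ, R⟩ := C.tp
  rw [← R.ker _ (mul_mem ha ha), R.mul a ha a ha]
  exact (C.gm _ (R.zz C.toFr).1 (R.zz C.toFr).2 _ ((R.cm ha C.zC).2 c)).1

theorem memN (ha : a ∈ 𝐂₁ t) (c : ⁅a, z⁆ ∈ Nn t) (j : a * g * (a * g) * (a * g) ∈ zpowers t) : a ∈ Nn t := by
  obtain ⟨ρ, R⟩ := C.tp
  have m := C.gC
  have m' := mul_mem ha m
  refine (R.ker a ha).1 ((C.gm _ (R.zz C.toFr).1 (R.zz C.toFr).2 _ ((R.cm ha C.zC).2 c)).2 (ρ g) ?_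
    (mt (R.ker g m).1 (not_mem3 (O_pi _ _) C.og)) (by rw [← R.cj C.zC m, C.zg, R.inv m]) ?_)
  · rw [← R.mul g m g m, ← R.mul _ (mul_mem m m) g m, cu3 C.og, R.one]
  · rw [← R.mul a ha g m, ← R.mul _ m' _ m', ← R.mul _ (mul_mem m' m') _ m', R.ker _ (mul_mem (mul_mem m' m') m')]
    exact zpowers_le.2 C.acN.mem j

theorem leN (k : P2 P) (m : Ac t g P) (n : z ∈ 𝐍 P) : P ≤ Qq t := by
  have l : P ≤ 𝐍 (Nn t) := fun _ hp => nN (m.le hp)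
  have nz := nN C.zC
  refine fun p hp => C.memQ ((qt_eq_bot l).1 (by_contra fun j => ?_) hp) (k.elt hp)
  obtain ⟨_, ⟨w, c⟩, w1⟩ := exists_mem_ne_one ((C.iz.piGrp.qt (Nn t)).inf_cent_ne_bot (k.qt _)
    (qt_norm _ (zpowers_le.2 n)) j)
  obtain ⟨a, ha, na, rfl⟩ := mem_qt.1 w
  refine w1 (qe_of_mem (C.memN (m.le ha) ?_ (m.cube C.H ha)))
  rw [← qe_eq_one (commutatorElement_def a z ▸ mul_mem (mul_mem (mul_mem na nz) (inv_mem na)) (inv_mem nz)),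
    qe_comm na nz, commutatorElement_eq_one_iff_mul_comm]
  exact (c _ (qe_mem_qt (mem_zpowers z) nz)).symm

theorem memQ' (i : a * a = 1) (c1 : a * t = t * a) (c2 : a * z = z * a) (j : a * g * (a * g) * (a * g) = t) :
    a ∈ Qq t := C.memQ (C.memN (mem_cent1.2 c1) (comm_N c2) (j ▸ mem_zpowers _)) (CIT.piElt_of_sq i)

theorem s6 (hx : x ∈ U0 t z) (i : Iv x) :
    ∃ φ : S6 →* G, Function.Injective φ ∧ φ pT = t ∧ φ pG = g ∧ φ pZ = z ∧ φ pH = h ∧ φ pX = x :=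
  C.H.key C.toFr i (mem_Uu.1 (C.U0_le hx)).1.symm (mem_Uu.1 (C.U0_le hx)).2.symm (C.acQ.cube C.H hx.1)
    (C.swap.acQ.cube C.H hx.2)

theorem mapQ {φ : S6 →* G} (j : Function.Injective φ) {t g z h a : S6} (f : Fr t g z h)
    (e : a * a = 1 ∧ a * t = t * a ∧ a * z = z * a ∧ a * g * (a * g) * (a * g) = t) : φ a ∈ Qq (φ t) := by
  obtain ⟨e1, e2, e3, e4⟩ := e
  refine (C.of (f.map j)).memQ' ?_ ?_ ?_ ?_ <;> simp only [← map_mul, *, map_one]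

theorem yx (S : Sd y t g z h) (hx : x ∈ U0 t z) (i : Iv x) : x * z ∈ cj y (U0 t z) := by
  obtain ⟨φ, j, rfl, rfl, rfl, rfl, rfl⟩ := C.s6 hx i
  have m1 := C.mapQ j frW (a := pX * pZ) (by decide +kernel)
  have m2 := C.mapQ j frW.swap (a := pX * pZ) (by decide +kernel)
  have cφ : ∀ a b, φ a * φ b * (φ a)⁻¹ = φ (a * b * a⁻¹) := fun a b => by simp
  have n : φ pW ∈ 𝐍 (zpowers (φ pG) ⊔ zpowers (φ pH) : Subgroup G) := mem_norm_of_cj_le (by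
    rw [cj_sup, cj_zpowers, cj_zpowers, cφ, cφ, show pW * pG * pW⁻¹ = pH by decide, show pW * pH * pW⁻¹ = pG by decide,
      sup_comm])
  have ww : φ pW * φ pW = 1 := (frW.map j).tt
  have r2 := S.y4
  have e := C.H.nm C.toFr (mul_mem (inv_mem (mul_mem S.yM S.yM)) n) (mem_cent1.2 (cmj (by
    rw [show ∀ a b c : G, a⁻¹ * b * c * (a⁻¹ * b)⁻¹ = a⁻¹ * (b * c * b⁻¹) * a from fun a b c => by group, cφ,
      show pW * pT * pW⁻¹ = pT * pZ by decide, map_mul, ← S.rt]; group))) (mem_cent1.2 (cmj (by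
    rw [show ∀ a b c : G, a⁻¹ * b * c * (a⁻¹ * b)⁻¹ = a⁻¹ * (b * c * b⁻¹) * a from fun a b c => by group, cφ,
      show pW * pZ * pW⁻¹ = pZ by decide]; nth_rw 1 [← S.rz]; group)))
  have rt : y * y * φ pT = φ pT * (y * y) * φ pZ := by rw [mul_assoc (φ pT), cmj S.rz, ← mul_assoc (φ pT), ← S.rt]; group
  rw [cj_U0, cjm S.yz, S.yt]
  rw [map_mul] at m1 m2
  rw [map_mul] at m2
  simp only [inv_mul_eq_iff_eq_mul] at e
  rcases e with e | e | e | e <;> rw [e] at m1 m2 ww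
  · rw [mul_one, r2] at ww; exact (C.iz.ne_one ww).elim
  · rw [rt] at m1 m2; rw [mul_assoc _ (φ pZ), C.zz, mul_one] at m2; exact ⟨m2, m1⟩
  · rw [mul_assoc, ← mul_assoc (φ pZ), ← cmj S.rz, mul_assoc (y * y), C.zz, mul_one, r2] at ww
    exact (C.iz.ne_one ww).elim
  · rw [← mul_assoc, rt, mul_assoc _ (φ pZ), C.zz, mul_one] at m1 m2; exact ⟨m1, m2⟩

theorem uniq (hx : x ∈ U0 t z) (i : Iv x) (hv : v ∈ U0 t z) (j : Iv v) : x = v := by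
  obtain ⟨y, S⟩ := C.H.sd C.toFr
  obtain ⟨c, hc, o, e⟩ := exists_zinv (Q_two.inf_left (K := Qq (t * z))) (.refl _) (ne_bot_of_mem hx i.ne_one)
  have key : ∀ x ∈ U0 t z, Iv x → x = c := fun x hx i => by_contra fun ne => by
    have m1 := C.yx S hx i
    have m2 := C.yx S hc o
    have m3 := C.yx S (mul_mem hx hc) (i.mul o (e x hx) ne)
    have := mul_mem (inv_mem (mul_mem (inv_mem m1) m3)) m2
    rw [show ((x * z)⁻¹ * (x * c * z))⁻¹ * (c * z) = z⁻¹ * c⁻¹ * (z * c) * z by group,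
      ← (mem_Uu.1 (C.U0_le hc)).2, show z⁻¹ * c⁻¹ * (c * z) * z = z by group, cj_U0] at this
    exact (S.toFr.conj y).z_N (by rw [cjm S.yz]; exact Q_le_N this.1)
  rw [key x hx i, key v hv j]

theorem ucx (hx : x ∈ U0 t z) (i : Iv x) : Uu t z ≤ 𝐂₁ x := fun u hu =>
  mem_cent1.2 (cmj (C.uniq (conj_mem_of_norm (U_norm hu) hx) (i.conj u) hx i))

theorem two_of (l : 𝒪 (Nn t) ≤ 𝐂₁ z) : P2 (Nn t) := by
  have : 𝒪 (Nn t) = ⊥ := eq_bot_of_forall fun o ho => by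
    have n : g ∈ 𝐍 (𝒪 (Nn t)) := norm_O _ _ (nN C.gC)
    have c1 := l ho
    have c2 : g * z * g⁻¹ ∈ 𝐂₁ o := by
      rw [mem_cent1_comm, ← cj_cent1, mem_cj]; exact l (conj_mem_of_norm' n ho)
    have c3 := mul_mem c2 (inv_mem (mem_cent1_comm.1 c1))
    rw [← C.zg, show g * z * (z * g * z⁻¹) * z⁻¹ = g * (z * z) * g * (z * z)⁻¹ by group, C.zz, mul_one, inv_one, mul_one,
      eq_inv_of_mul_eq_one_left (cu3 C.og), inv_mem_iff, mem_cent1_comm] at c3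
    exact (C.it.piGrp.elt (C.H.two C.it C.og C.tg ((O_pi _ _).elt (O_le _ _ ho)) (N_le (O_le _ _ ho)) c3)).eq_one
      ((O_pi _ _).elt ho)
  exact (this ▸ C.nil.hall_O {2}ᶜ).pi'_of_eq_bot.of_compl_compl

end Cx

/-- the situation when the two `2`-cores meet non-trivially -/
structure Xd (y t g z x : G) : Prop where
  i : Iv x
  u0 : U0 t z = zpowers x
  yx : y * x * y⁻¹ = x * z
  two : P2 (Nn t)
  uc : Uu t z ≤ 𝐂₁ x
  uq : Uu t z ≤ Qq x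
  k : ∃ k, orderOf k = 3 ∧ x * k = k * x ∧ k ∈ 𝐍 (Uu t z)
  cj : ∃ c, c * t * c⁻¹ = x
  cY : ♯(Uu t x ⊓ 𝐂₁ (g * x * g⁻¹) : Subgroup G) = ♯(Uu t z)
  tx : ∃ c, c * z * c⁻¹ = t * x

theorem Cx.xd (C : Cx Γ t g z h) (S : Sd y t g z h) (ne : U0 t z ≠ ⊥) : ∃ x, Xd y t g z x := by
  obtain ⟨x, hx, i⟩ := CIT.exists_inv Q_two.inf_left ne
  replace i : Iv x := i
  have uc := C.ucx hx i
  have yx : y * x * y⁻¹ = x * z := by
    have m := C.yx S hx i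
    have := C.uniq (mem_cj.1 m) (Iv.conj' (i.mul C.iz (mem_Uu.1 (C.U0_le hx)).2 fun e => C.z_N (Q_le_N (e ▸ hx.1))) y) hx i
    nth_rw 1 [← this]; group
  obtain ⟨φ, j, rfl, rfl, rfl, rfl, rfl⟩ := C.s6 hx i
  have cφ : ∀ a b, φ a * φ b * (φ a)⁻¹ = φ (a * b * a⁻¹) := fun a b => by simp
  have D := C.of (frX.map j)
  obtain ⟨c, c1, c2, c3, -⟩ := C.H.fr _ _ _ _ _ _ _ _ C.toFr D.toFr
  have a1 := C.mapQ j frX (a := pX * pZ) (by decide +kernel)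
  have a2 := C.mapQ j frX.swap (a := pX * pZ) (by decide +kernel)
  have ia : Iv (φ (pX * pZ)) := (orderOf_injective φ j _).trans (Six.ord2 (by decide) (by decide))
  have kA : φ pK * φ (pX * pZ) * (φ pK)⁻¹ = φ pT := by rw [cφ]; exact congrArg φ (by decide)
  have kT : φ pK * φ pT * (φ pK)⁻¹ = φ pT * φ pZ := by rw [cφ, ← map_mul]; exact congrArg φ (by decide)
  have tQ := kA ▸ conj_mem_of_norm (nQ D.gC) a1
  have tQ' := kT ▸ conj_mem_of_norm (nQ D.gC) tQ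
  have ua : Uu (φ pT) (φ pZ) ≤ 𝐂₁ (φ (pX * pZ)) := fun u hu => map_mul φ pX pZ ▸ U_tz ⟨uc hu, hu.2⟩
  have au : ∀ u ∈ 𝐂₁ (φ pT), u ∈ 𝐂₁ (φ pX) → u ∈ 𝐂₁ (φ (pX * pZ)) → u ∈ Uu (φ pT) (φ pZ) := fun u h1 h2 h3 =>
    ⟨h1, by have := U_tz ⟨h2, h3⟩; rwa [← map_mul, show pX * (pX * pZ) = pZ by decide] at this⟩
  have two : ∀ {t' g' z' h' : G}, Fr t' g' z' h' → P2 (Nn t') := fun f => by
    have l : 𝒪 (Nn (φ pX)) ≤ Uu (φ pT) (φ pZ) := fun o ho => by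
      have := O_compl_cent_normal ((O_normal _ _).of_le Q_le_N N_le) Q_two ho
      exact C.U_of (cent_le_cent1 tQ this) (cent_le_cent1 tQ' this)
    have l' : 𝒪 (Nn (φ pX)) ≤ 𝒪 (Nn (φ pT)) := fun o ho => C.nil.mem_O (mem_of_sq_mem (eo_iff.2 ((O_pi _ _).elt ho))
      (C.sqN (l ho).1 (comm_N (mem_Uu.1 (l ho)).2))) ((O_pi _ _).elt ho)
    have := C.two_of ((eq_of_card_eq l' (by rw [← c1, ← cj_N, ← cj_O, card_cj])).ge.trans (l.trans inf_le_right))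
    obtain ⟨c, e, -⟩ := C.H.fr _ _ _ _ _ _ _ _ C.toFr f
    exact e ▸ cj_N c _ ▸ this.cj c
  have sq : ∀ u ∈ Uu (φ pT) (φ pZ), u * u ∈ U0 (φ pT) (φ pZ) := fun u hu => by
    have m1 := C.sqN hu.1 (comm_N (mem_Uu.1 hu).2)
    have m2 := C.sw.sqN (U_tz hu) (comm_N (mem_Uu.1 hu).2)
    exact ⟨C.memQ m1 ((two C.toFr).elt m1), C.sw.memQ m2 ((two C.swap).elt m2)⟩
  have p : P2 (Uu (φ pT) (φ pZ)) := piGrp_of_forall_elt fun u hu => e2_of_sq (Q_two.elt (sq u hu).1)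
  have nk : φ pK ∈ 𝐍 (Uu (φ pT) (φ pZ)) := mem_norm_of_cj_le fun w hw => by
    obtain ⟨u, hu, rfl⟩ := mem_cj_iff.1 hw
    exact C.U_of (by rw [← kA, ← cj_cent1]; exact conj_mem_cj.2 (ua hu)) (by rw [← kT, ← cj_cent1]; exact conj_mem_cj.2 hu.1)
  have ny : φ pY ∈ 𝐍 (Uu (φ pT) (φ pZ)) := by
    rw [← cj_eq_self, cj_Uu, cφ, cφ, show pY * pT * pY⁻¹ = pT * pZ by decide, show pY * pZ * pY⁻¹ = pZ by decide, map_mul,
      C.Uu_swap]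
  have uq := D.leN p ⟨i, D.og, D.tg, t23 p, C.U0_le hx, uc, nk⟩ ny
  have ca : c * φ pX * c⁻¹ = φ (pX * pZ) := D.uniq (by rw [← c1, ← c3, ← cj_U0, c1]; exact conj_mem_cj.2 hx) (i.conj c)
    ⟨a1, map_mul φ pX pY ▸ a2⟩ ia
  refine ⟨_, i, le_antisymm (by_contra fun l => ?_) (zpowers_le.2 hx), yx, two C.toFr, uc, uq, ⟨_, D.og, D.tg, nk⟩,
    ⟨c, c1⟩, ?_, ⟨φ (swap 2 4 * swap 3 5), by rw [cφ, ← map_mul]; exact congrArg φ (by decide)⟩⟩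
  · obtain ⟨v, hv, v1, v2, e | e, -⟩ := zmod i Q_two.inf_left (C.U0_le.trans uc) (.refl _) l
    · exact v2 (C.uniq hv (.mk' v1 e) hx i)
    have m : c * v * c⁻¹ ∈ Qq (φ pX) := by rw [← c1, ← cj_Q]; exact conj_mem_cj.2 hv.1
    have e' : c * v * c⁻¹ * (c * v * c⁻¹) = φ (pX * pZ) := by rw [conj_mul, e, ca]
    generalize c * v * c⁻¹ = w at m e'
    have k := D.acQ.cmz C.H m
    have k' := mem_cent1.1 (zpowers_le.2 (mem_cent1_comm.1 (Q_le (D.acQ.cj m))) k)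
    have k2 : ⁅w, φ pK * w * (φ pK)⁻¹⁆ * ⁅w, φ pK * w * (φ pK)⁻¹⁆ = 1 := by
      rcases i.mem_zpowers.1 k with e | e <;> rw [e]
      exacts [mul_one 1, i.sq]
    have := sq w (au w (mem_cent1.2 (cmj ?_)) (Q_le m) (mem_cent1.2 (by rw [← e', mul_assoc])))
    · have := C.uniq (e' ▸ this) ia hx i
      rw [map_mul, mul_eq_left] at this
      exact C.iz.ne_one this
    rw [← kA, ← e', ← conj_mul (b := φ pK)]
    generalize φ pK * w * (φ pK)⁻¹ = u at k' k2 ⊢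
    calc _ = ⁅w, u⁆ * (u * ⁅w, u⁆) * u := by simp only [commutatorElement_def]; group
      _ = _ := by rw [← k', ← mul_assoc, k2, one_mul]
  · rw [← card_cj c, cj_inf, cj_Uu, cj_cent1, c1, ca, ← conj_mul, ← conj_mul, ← conj_inv, c2, ca, kA]
    congr 2
    exact le_antisymm (fun u hu => au u hu.2 hu.1.1 hu.1.2) fun u hu => ⟨⟨uc hu, ua hu⟩, hu.1⟩

end CF.P11
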